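import Cfsg.Agent.LV.Lab.Defs

/-!
# LV, the label layer: norms and sums over orbits of labels (helper2)

`yv_conj`, `nr_cj`, `Std.nr_eq`, `bessel_fin`, `nr_add_le`, `cj_of_half`, `uniq`, `mL_ind`, `mL_unit`.
-/

set_option autoImplicit false
set_option linter.unusedSectionVars false
set_option maxHeartbeats 400000

namespace Cfsg.Agent.LV.Lab

open Cfsg Cfsg.Agent.DL Cfsg.Agent.DL.PP Cfsg.Agent.KZ.Lie Cfsg.Agent.Tits.Core Cfsg.Agent.Tits.Roots Cfsg.Agent.LV.T
  Cfsg.Agent.LV.Blk Cfsg.Agent.Characters.Core Matrix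

variable {p : ℕ} [Fact p.Prime] {k : Type} [Field k] [CharP k p] {Y : Type} [Group Y] {N : Type} [Fintype N]
  [DecidableEq N] {ρ : Y →* GL N k} {F : MulAut Y} {G : Subgroup Y} [IsAlgClosed k] {D : Datum p ρ F G}
  {v w w' w₁ : D.W} {c c' c'' : Lbl D} {l : ℕ} {K : Set D.I}

variable (D) in
/-- the action of the Weyl group on the labels -/
noncomputable def ac (v : D.W) (c : Lbl D) : Lbl D := mon (D.Wm v⁻¹)ᵀ c

theorem rel_ac (v : D.W) (c : Lbl D) : Rel D v c (ac D v c) := fun x => by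
  rw [ac, chr_tr, mulVec_mulVec, ← D.Wm_mul, inv_mul_cancel, D.Wm_one, one_mulVec]

theorem ac_eq : ac D v c = c' ↔ Rel D v c c' :=
  ⟨fun h => h ▸ rel_ac v c, fun h => eq_of_chr D fun x => by rw [ac, chr_tr, h.symm]⟩

theorem mem_St : v ∈ St D c ↔ Rel D v c c := Iff.rfl

theorem Cj.refl (c : Lbl D) : Cj D c c := ⟨1, rel_one D c⟩

theorem Cj.symm (h : Cj D c c') : Cj D c' c := h.elim fun _ h => ⟨_, h.symm⟩

theorem Cj.trans (h : Cj D c c') (h' : Cj D c' c'') : Cj D c c'' := h.elim fun _ h => h'.elim fun _ h' => ⟨_, h.trans h'⟩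

theorem rel_pow (h : Rel D v c c') (n : ℕ) : Rel D v (c ^ n) (c' ^ n) := fun x => by rw [map_pow, map_pow, h]

theorem Cj.eq_one (h : Cj D 1 c) : c = 1 :=
  h.elim fun _ h => eq_of_chr D fun x => by rw [← h.symm x, map_one, map_one]

theorem Cj.isL (h : Cj D c c') (hc : IsL l c) : IsL l c' :=
  h.elim fun _ h => hc.imp fun j hj => Cj.eq_one ⟨_, hj ▸ rel_pow h (l ^ j)⟩

theorem St_one : St D 1 = ⊤ := eq_top_iff.2 fun _ _ _ => by rw [map_one, map_one]

theorem tc_self (v w : D.W) : Tc D v (v⁻¹ * w * D.Fw v) w := by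
  show _ = _
  group

theorem tc_self' (v w : D.W) : Tc D v w (v * w * (D.Fw v)⁻¹) := by
  show _ = _
  group

theorem tc_trans {u : D.W} {w'' : D.W} (h : Tc D v w w') (h' : Tc D u w' w'') : Tc D (u * v) w w'' := by
  have h1 : w' * D.Fw v = v * w := h
  have h2 : w'' * D.Fw u = u * w' := h'
  show w'' * D.Fw (u * v) = _
  rw [map_mul, ← mul_assoc, h2, mul_assoc, h1, mul_assoc]

theorem Std.St_eq (h : Std D K w₁ c) : St D c = WJ D.cs K := Subgroup.ext h.stab

theorem Std.fx_one (h : Std D K w₁ c) : Fx D w₁ c := (h.fx w₁).2 (by rw [mul_inv_cancel]; exact one_mem _)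

theorem Std.fx_mul (h : Std D K w₁ c) {x : D.W} (hx : x ∈ WJ D.cs K) : Fx D (x * w₁) c :=
  (h.fx _).2 (by rwa [mul_inv_cancel_right])

theorem card_fib (H : Subgroup D.W) (c : Lbl D) (z : H) :
    Nat.card {v : H // ac D v c = ac D z c} = Nat.card ↥(H ⊓ St D c) :=
  Nat.card_congr ⟨fun v => ⟨(z : D.W)⁻¹ * v.1, H.mul_mem (H.inv_mem z.2) v.1.2, (ac_eq.1 v.2).trans (rel_ac _ c).symm⟩,
    fun u => ⟨⟨z * u.1, H.mul_mem z.2 u.2.1⟩, ac_eq.2 (Rel.trans u.2.2 (rel_ac _ c))⟩, fun v => by simp, fun u => by simp⟩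

open Classical in
theorem sum_orb (H : Subgroup D.W) [Fintype H] (c : Lbl D) {A : Type*} [AddCommMonoid A] (a : Lbl D → A) :
    ∑ v : H, a (ac D v c) = Nat.card ↥(H ⊓ St D c) • ∑ b ∈ Finset.univ.image fun v : H => ac D v c, a b := by
  rw [Finset.sum_comp a fun v : H => ac D v c, Finset.smul_sum]
  refine Finset.sum_congr rfl fun b hb => ?_
  obtain ⟨z, -, rfl⟩ := Finset.mem_image.1 hb
  rw [← card_fib H c z, Nat.card_eq_fintype_card, Fintype.card_subtype]

open Classical in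
theorem sum_orb' [Fintype D.W] (c : Lbl D) {A : Type*} [AddCommMonoid A] (a : Lbl D → A) :
    ∑ v, a (ac D v c) = Nat.card (St D c) • ∑ b ∈ Finset.univ.image fun v => ac D v c, a b := by
  have h := sum_orb ⊤ c a
  rw [top_inf_eq, show (Finset.univ.image fun v : (⊤ : Subgroup D.W) => ac D v c) = Finset.univ.image fun v => ac D v c from
    Finset.ext fun b => by simp] at h
  rw [← h]
  exact (Fintype.sum_equiv Subgroup.topEquiv.toEquiv _ _ fun _ => rfl).symm

theorem card_St_ne (c : Lbl D) : Nat.card (St D c) ≠ 0 := Nat.card_pos.ne'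

variable (f : Fr D) [Fintype ↥(GF F G)] (χ : ↥(GF F G) → ℂ)

theorem yv_zero (h : ¬ Fx D w c) : yv f χ c w = 0 := by rw [yv, RW_zero f h, classInner_zero_right]

theorem yv_conj (ht : Tc D v w w') (hr : Rel D v c c') : yv f χ c w = yv f χ c' w' := by rw [yv, yv, RW_conj f ht hr]

theorem yv_ac (v w : D.W) (c : Lbl D) : yv f χ (ac D v c) w = yv f χ c (v⁻¹ * w * D.Fw v) :=
  (yv_conj f χ (tc_self v w) (rel_ac v c)).symm

/-- invariance under twisted conjugation by the stabiliser -/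
theorem Std.yv_cls (h : Std D K w₁ c) {x : D.W} (hx : x ∈ WJ D.cs K) (u : D.W) :
    yv f χ c (x * u * (D.Fw x)⁻¹) = yv f χ c u := (yv_conj f χ (tc_self' x u) ((h.stab x).2 hx)).symm

theorem yv_int {χ : ↥(GF F G) → ℂ} (h : IsGeneralizedCharacter _ χ) (c : Lbl D) (u : D.W) : ∃ n : ℤ, yv f χ c u = n :=
  inner_int h (RW_gen f u c)

theorem sum_sq_ac [Fintype D.W] (v : D.W) (c : Lbl D) : ∑ u, ‖yv f χ (ac D v c) u‖ ^ 2 = ∑ u, ‖yv f χ c u‖ ^ 2 :=
  Fintype.sum_equiv ((Equiv.mulLeft v⁻¹).trans (Equiv.mulRight (D.Fw v))) _ _ fun u => by rw [yv_ac]; rfl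

theorem nr_eq [Fintype D.W] (c : Lbl D) : nr f χ c = (Nat.card (St D c) : ℝ)⁻¹ * ∑ u, ‖yv f χ c u‖ ^ 2 := by
  rw [nr, finsum_eq_sum_of_fintype]

theorem nr_nonneg (c : Lbl D) : 0 ≤ nr f χ c := by
  have := Fintype.ofFinite D.W
  rw [nr_eq]
  positivity

theorem nr_eq_zero : nr f χ c = 0 ↔ ∀ u, yv f χ c u = 0 := by
  have := Fintype.ofFinite D.W
  rw [nr_eq, mul_eq_zero, inv_eq_zero, Nat.cast_eq_zero, or_iff_right (card_St_ne c),
    Finset.sum_eq_zero_iff_of_nonneg fun _ _ => sq_nonneg _]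
  simp

theorem nr_one [Fintype D.W] : nr f χ 1 = (Fintype.card D.W : ℝ)⁻¹ * ∑ u, ‖yv f χ 1 u‖ ^ 2 := by
  rw [nr_eq, St_one, Subgroup.card_top, Nat.card_eq_fintype_card]

theorem nr_cj (h : Cj D c c') : nr f χ c = nr f χ c' := by
  have := Fintype.ofFinite D.W
  obtain ⟨v, h⟩ := h
  have h1 : Nat.card (St D c) = Nat.card (St D c') := Nat.card_congr
    ⟨fun u => ⟨v * (u * v⁻¹), (h.symm.trans u.2).trans h⟩, fun u => ⟨v⁻¹ * (u * v), (h.trans u.2).trans h.symm⟩,
      fun u => by simp [mul_assoc], fun u => by simp [mul_assoc]⟩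
  rw [nr_eq, nr_eq, h1, ← ac_eq.2 h, sum_sq_ac]

/-- a sum over the Weyl group is a sum over the coset -/
theorem Std.sum_coset [Fintype D.W] (h : Std D K w₁ c) [Fintype (WJ D.cs K)] {A : Type*} [AddCommMonoid A] (a : D.W → A)
    (h0 : ∀ u, ¬ Fx D u c → a u = 0) : ∑ u, a u = ∑ x : WJ D.cs K, a (x * w₁) := by
  classical
  rw [← Equiv.sum_comp (Equiv.mulRight w₁), ← Finset.sum_subtype (Finset.univ.filter (· ∈ WJ D.cs K)) (by simp)
    fun x => a (x * w₁), Finset.sum_filter]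
  refine Finset.sum_congr rfl fun x _ => ?_
  split_ifs with hx
  · rfl
  · exact h0 _ fun e => hx (by simpa using (h.fx _).1 e)

theorem Std.nr_eq (h : Std D K w₁ c) [Fintype (WJ D.cs K)] :
    nr f χ c = (Nat.card (WJ D.cs K) : ℝ)⁻¹ * ∑ x : WJ D.cs K, ‖yv f χ c (x * w₁)‖ ^ 2 := by
  have := Fintype.ofFinite D.W
  rw [Lab.nr_eq, h.St_eq, h.sum_coset _ fun u hu => by rw [yv_zero f χ hu, norm_zero, zero_pow two_ne_zero]]

/-- **Bessel** for pairwise non conjugate labels -/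
theorem bessel_fin (s : Finset (Lbl D)) (hs : ∀ a ∈ s, ∀ b ∈ s, Cj D a b → a = b) :
    ∑ c ∈ s, nr f χ c ≤ (classInner χ χ).re := by
  classical
  have := Fintype.ofFinite D.W
  refine le_trans ?_ (bessel f χ)
  have h0 : (0 : ℝ) < Nat.card D.W := Nat.cast_pos.2 Nat.card_pos
  have h1 : ∀ c, nr f χ c = (Nat.card D.W : ℝ)⁻¹ *
      ∑ b ∈ Finset.univ.image fun v => ac D v c, ∑ u, ‖yv f χ b u‖ ^ 2 := fun c => by
    have h2 := sum_orb' c fun b => ∑ u, ‖yv f χ b u‖ ^ 2
    simp only [sum_sq_ac, Finset.sum_const, Finset.card_univ, nsmul_eq_mul, ← Nat.card_eq_fintype_card] at h2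
    rw [nr_eq, inv_mul_eq_iff_eq_mul₀ (Nat.cast_ne_zero.2 (card_St_ne c)), mul_left_comm, ← h2, inv_mul_cancel_left₀ h0.ne']
  rw [Finset.sum_congr rfl fun c _ => h1 c, ← Finset.mul_sum, ← Finset.sum_biUnion, Finset.sum_comm,
    finsum_eq_sum_of_fintype]
  · refine mul_le_mul_of_nonneg_left (Finset.sum_le_sum fun u _ => ?_) (inv_pos.2 h0).le
    have h2 : (Function.support fun c : Lbl D => ‖classInner χ (RW f u c)‖ ^ 2).Finite :=
      (Set.finite_coe_iff.1 (finite_Fx D u) : {c | Fx D u c}.Finite).subset fun c hc => by_contra fun e =>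
        hc (by simp [show classInner χ (RW f u c) = 0 from yv_zero f χ e])
    rw [finsum_eq_sum_of_support_subset _ (s := h2.toFinset ∪ s.biUnion fun c => Finset.univ.image fun v => ac D v c)
      fun c hc => Finset.mem_union_left _ (h2.mem_toFinset.2 hc)]
    exact Finset.sum_le_sum_of_subset_of_nonneg Finset.subset_union_right fun _ _ _ => sq_nonneg _
  · intro a ha b hb hab
    refine Finset.disjoint_left.2 fun x hx hx' => hab (hs a ha b hb ?_)
    obtain ⟨u, -, rfl⟩ := Finset.mem_image.1 hx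
    obtain ⟨u', -, e⟩ := Finset.mem_image.1 hx'
    exact Cj.trans ⟨_, rel_ac u a⟩ ⟨_, (ac_eq.1 e).symm⟩

theorem nr_le (c : Lbl D) : nr f χ c ≤ (classInner χ χ).re := by
  simpa using bessel_fin f χ {c} (by simp)

theorem nr_add_le' (h : ¬ Cj D c c') : nr f χ c + nr f χ c' ≤ (classInner χ χ).re := by
  classical
  have h1 : c ≠ c' := fun e => h (e ▸ Cj.refl c)
  have h2 := bessel_fin f χ {c, c'} (by
    simp only [Finset.mem_insert, Finset.mem_singleton]
    rintro a (rfl | rfl) b (rfl | rfl) e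
    exacts [rfl, absurd e h, absurd e.symm h, rfl])
  rwa [Finset.sum_pair h1] at h2

variable {χ}

theorem nr_le_one (hχ : IsIrrCharacter _ χ) (c : Lbl D) : nr f χ c ≤ 1 := by
  simpa [classInner_irr_self hχ] using nr_le f χ c

theorem nr_add_le (hχ : IsIrrCharacter _ χ) (h : ¬ Cj D c c') : nr f χ c + nr f χ c' ≤ 1 := by
  simpa [classInner_irr_self hχ] using nr_add_le' f χ h

theorem cj_of_half (hχ : IsIrrCharacter _ χ) (h : 1 / 2 < nr f χ c) (h' : 1 / 2 ≤ nr f χ c') : Cj D c c' :=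
  by_contra fun e => by
    have := nr_add_le f hχ e
    linarith

/-- a vector of norm `> 1 / 2` belongs to one irreducible character only -/
theorem uniq {ψ : ↥(GF F G) → ℂ} (hχ : IsIrrCharacter _ χ) (hψ : IsIrrCharacter _ ψ) (hne : χ ≠ ψ) {ε : ℂ}
    (hε : ε = 1 ∨ ε = -1) (h : ∀ u, yv f χ c u = ε * yv f ψ c u) : nr f χ c ≤ 1 / 2 := by
  have := Fintype.ofFinite D.W
  have h1 := nr_le f (χ + ε • ψ) c
  have h2 : ∀ u, yv f (χ + ε • ψ) c u = 2 * yv f χ c u := fun u => by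
    rw [yv, classInner_add_left, classInner_smul_left, two_mul]
    exact congrArg _ (h u).symm
  have h3 : classInner (χ + ε • ψ) (χ + ε • ψ) = 2 := by
    simp only [classInner_add_left, classInner_add_right, classInner_smul_left, classInner_smul_right,
      classInner_irr_self hχ, classInner_irr_self hψ, classInner_irr_ne hχ hψ hne, classInner_irr_ne hψ hχ hne.symm]
    rcases hε with rfl | rfl <;> norm_num
  rw [h3, nr_eq] at h1
  simp only [h2, norm_mul, mul_pow, ← Finset.mul_sum] at h1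
  rw [nr_eq]
  norm_num at h1 ⊢
  linarith

variable (χ)

open Classical in
theorem mL_orb [Fintype D.W] (hc : IsL l c) (h : ∀ b, IsL l b → ¬ Cj D c b → yv f χ b w = 0) :
    mL f l w 1 χ = ∑ b ∈ Finset.univ.image fun v => ac D v c, yv f χ b w := by
  rw [mL_one, ← finsum_mem_coe_finset]
  refine finsum_congr fun b => ?_
  rw [finsum_eq_if, finsum_eq_if]
  by_cases h1 : Cj D c b
  · rw [if_pos (h1.isL hc), if_pos (by simpa [ac_eq, Cj] using h1)]
    rfl
  · rw [if_neg (c := b ∈ _) (by simpa [ac_eq, Cj] using h1)]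
    split_ifs with h2
    exacts [h b h2 h1, rfl]

/-- **One orbit of labels**: the sum of the multiplicities is the value of the induced function -/
theorem mL_ind [Fintype D.W] (hc : IsL l c) (h : ∀ b, IsL l b → ¬ Cj D c b → yv f χ b w = 0) :
    mL f l w 1 χ * Nat.card (St D c) = ∑ v, yv f χ c (v⁻¹ * w * D.Fw v) := by
  rw [mL_orb f χ hc h, Finset.sum_congr rfl fun v _ => (yv_ac f χ v w c).symm, sum_orb' c fun b => yv f χ b w,
    nsmul_eq_mul, mul_comm]

/-- only the trivial label -/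
theorem mL_uni (h : ∀ b, IsL l b → b ≠ 1 → yv f χ b w = 0) : mL f l w 1 χ = yv f χ 1 w := by
  classical
  have := Fintype.ofFinite D.W
  rw [mL_orb f χ (isL_one l) fun b hb e => h b hb fun e' => e (by rw [e']; exact Cj.refl 1),
    show (Finset.univ.image fun v => ac D v 1) = {1} from Finset.ext fun b => by
      simpa [ac_eq] using ⟨fun e => Cj.eq_one e, fun e => e ▸ Cj.refl 1⟩, Finset.sum_singleton]

/-- **One orbit of labels, one class**: the sum of the multiplicities is a multiple of one multiplicity -/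
theorem mL_unit (hc : IsL l c) (h : ∀ b, IsL l b → ¬ Cj D c b → yv f χ b w = 0)
    (h1 : ∀ w' v, Fx D w' c → Tc D v w' w → ∃ u, Rel D u c c ∧ Tc D u w' w) :
    ∃ t : ℕ, t ∣ Nat.card (CW D w) ∧ mL f l w 1 χ = t * yv f χ c w := by
  classical
  have := Fintype.ofFinite D.W
  have := Fintype.ofFinite (CW D w)
  refine ⟨(Finset.univ.image fun v : CW D w => ac D v c).card, ?_, ?_⟩
  · have h2 := sum_orb (CW D w) c fun _ => 1
    simp only [Finset.sum_const, Finset.card_univ, smul_eq_mul, mul_one] at h2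
    exact Dvd.intro_left _ (h2.symm.trans Nat.card_eq_fintype_card.symm)
  rw [mL_orb f χ hc h, ← nsmul_eq_mul, ← Finset.sum_const, eq_comm,
    Finset.sum_congr rfl (g := fun b => yv f χ b w) fun b hb => ?_]
  · refine Finset.sum_subset (fun b hb => ?_) fun b hb hb' => yv_zero f χ fun e => hb' ?_
    · obtain ⟨z, -, rfl⟩ := Finset.mem_image.1 hb
      exact Finset.mem_image_of_mem _ (Finset.mem_univ _)
    · obtain ⟨z, -, rfl⟩ := Finset.mem_image.1 hb
      obtain ⟨u, h2, h3⟩ := h1 _ z (fx_of_tc (tc_self z w).symm (rel_ac z c).symm e) (tc_self z w)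
      exact Finset.mem_image.2 ⟨⟨z * u⁻¹, tc_trans h3.symm (tc_self z w)⟩, Finset.mem_univ _,
        ac_eq.2 (h2.symm.trans (rel_ac z c))⟩
  · obtain ⟨z, -, rfl⟩ := Finset.mem_image.1 hb
    exact yv_conj f χ z.2 (rel_ac _ c)

end Cfsg.Agent.LV.Lab
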