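import Cfsg.Agent.LV.Lab.Lv

/-!
# LV, the label layer: every label of `l`-power order is conjugate to one in standard position (helper2)

`stab_le` (Steinberg), `exists_std`, `lev_of_small`, `lev_of_high`.
-/

set_option autoImplicit false
set_option linter.unusedSectionVars false
set_option maxHeartbeats 400000

namespace Cfsg.Agent.LV.Lab

open Cfsg Cfsg.Agent.DL Cfsg.Agent.DL.PP Cfsg.Agent.KZ.Lie Cfsg.Agent.Tits.Core Cfsg.Agent.Tits.Roots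
  Cfsg.Agent.Tits.Exchange Cfsg.Agent.LV.T Cfsg.Agent.LV.Blk Cfsg.Agent.ChevalleyStructure.CoxeterGeom
  Cfsg.Agent.Nodes.Coroot Matrix

variable {p : ℕ} [Fact p.Prime] {k : Type} [Field k] [CharP k p] {Y : Type} [Group Y] {N : Type} [Fintype N]
  [DecidableEq N] {ρ : Y →* GL N k} {F : MulAut Y} {G : Subgroup Y} [IsAlgClosed k] {D : Datum p ρ F G}
  {l : ℕ} {c : Lbl D} {w : D.W}

variable (D) in
/-- the linear form on the roots with the signs of `η ⬝ᵥ cor a` -/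
noncomputable def Lf (η : D.R → ℤ) : (D.I → ℤ) →+ ℤ where
  toFun b := ∑ c ∈ PP.Phi D, (η ⬝ᵥ D.cor c) * cp D b c
  map_zero' := Finset.sum_eq_zero fun c hc => by rw [cp, ← ell_apply _ _ ((mem_Phi D).1 hc), map_zero, mul_zero]
  map_add' b b' := by
    rw [← Finset.sum_add_distrib]
    exact Finset.sum_congr rfl fun c hc => by rw [cp, cpr_add _ _ _ _ ((mem_Phi D).1 hc), mul_add]

theorem Lf_zero (η : D.R → ℤ) {a : D.I → ℤ} (ha : D.Rt a) : Lf D η a = 0 ↔ η ⬝ᵥ D.cor a = 0 := by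
  have h1 : 2 * Lf D η a = _ := two_sum' D η ha
  rw [← mul_eq_zero_iff_left (b := η ⬝ᵥ D.cor a) (sum_sq_pos' D ha).ne', ← h1]
  omega

theorem Lf_nonneg (η : D.R → ℤ) {a : D.I → ℤ} (ha : D.Rt a) (h : 0 ≤ Lf D η a) : 0 ≤ η ⬝ᵥ D.cor a := by
  have h1 : 2 * Lf D η a = _ := two_sum' D η ha
  exact nonneg_of_mul_nonneg_right (h1 ▸ by omega) (sum_sq_pos' D ha) |>.trans_eq rfl

theorem Lf_act (η : D.R → ℤ) (u : D.W) (a : D.I → ℤ) : Lf D η (D.act u a) = Lf D (η ᵥ* D.Wm u) a := by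
  show ∑ c ∈ PP.Phi D, (η ⬝ᵥ D.cor c) * cp D (D.act u a) c = ∑ c ∈ PP.Phi D, _
  rw [← sum_act D u]
  exact Finset.sum_congr rfl fun c hc => by rw [cp_act D u a ((mem_Phi D).1 hc), dot_cor_act D η u ((mem_Phi D).1 hc)]

/-- translation into the union of the alcoves at the origin -/
theorem exists_small (η : D.R → ℤ) {n : ℤ} (hn : 0 < n) :
    ∃ μ : D.I → ℤ, ∀ a, D.Rt a → (η - n • D.wt μ) ⬝ᵥ D.cor a ≤ n := by
  let E : (D.R → ℤ) → ℤ := fun η => ∑ c ∈ PP.Phi D, (η ⬝ᵥ D.cor c) ^ 2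
  have hE : ∀ η, 0 ≤ E η := fun η => Finset.sum_nonneg fun _ _ => sq_nonneg _
  obtain ⟨μ, hμ⟩ : ∃ μ : D.I → ℤ, ∀ μ', E (η - n • D.wt μ) ≤ E (η - n • D.wt μ') := by
    refine ⟨Function.argmin (fun μ : D.I → ℤ => (E (η - n • D.wt μ)).toNat), fun μ' => ?_⟩
    have h1 := Function.argmin_le (fun μ : D.I → ℤ => (E (η - n • D.wt μ)).toNat) μ'
    have h2 := hE (η - n • D.wt μ')
    have h3 := hE (η - n • D.wt (Function.argmin (fun μ : D.I → ℤ => (E (η - n • D.wt μ)).toNat)))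
    omega
  refine ⟨μ, fun a ha => ?_⟩
  set η₁ := η - n • D.wt μ with hη₁
  have h1 := hμ (μ + a)
  have h2 : E (η - n • D.wt (μ + a)) = E η₁ - n * (2 * ∑ c ∈ PP.Phi D, (η₁ ⬝ᵥ D.cor c) * cp D a c) +
      n ^ 2 * ∑ c ∈ PP.Phi D, cp D a c ^ 2 := by
    simp only [E, Finset.mul_sum, ← Finset.sum_sub_distrib, ← Finset.sum_add_distrib]
    refine Finset.sum_congr rfl fun c hc => ?_
    rw [map_add, smul_add, ← sub_sub, ← hη₁, sub_dotProduct, smul_dotProduct, wt_dot_cor D a ((mem_Phi D).1 hc),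
      smul_eq_mul]
    ring
  rw [h2, two_sum' D η₁ ha] at h1
  by_contra h5
  have := mul_pos (mul_pos hn (sum_sq_pos' D ha)) (sub_pos.2 (not_le.1 h5))
  nlinarith

/-- the stabiliser of a point in the affine Weyl group is generated by reflections -/
theorem mem_of_aff {η : D.R → ℤ} {n : ℤ} (hn : 0 < n) (hη : ∀ a, D.Rt a → η ⬝ᵥ D.cor a ≤ n) {H : Subgroup D.W}
    (hH : ∀ a, D.Rt a → n ∣ η ⬝ᵥ D.cor a → D.rf a ∈ H) (u : D.W) (β : D.I → ℤ) (hu : η ᵥ* D.Wm u = η + n • D.wt β) :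
    u ∈ H := by
  have := Fintype.ofFinite D.W
  induction hm : (form D.cs D.h β β).toNat using Nat.strong_induction_on generalizing u β with
  | _ m ih =>
  by_cases h0 : ∀ a, D.Rt a → |cp D β a| ≤ 1
  · rw [eq_zero_of_minuscule D β h0, map_zero, smul_zero, add_zero] at hu
    exact CF.mem_of_fix D (Lf D η) (fun a ha h => hH a ha ((Lf_zero η ha).1 h ▸ dvd_zero n)) fun a => by rw [Lf_act, hu]
  obtain ⟨a, ha, h1⟩ : ∃ a, D.Rt a ∧ 2 ≤ cp D β a := by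
    push Not at h0
    obtain ⟨a, ha, h1⟩ := h0
    rcases lt_abs.1 h1 with h2 | h2
    · exact ⟨a, ha, h2⟩
    · exact ⟨-a, ha.neg, by rwa [cp, cpr_neg_right _ _ _ ha]⟩
  have h2 := dot_cor_act D η u ha
  have h3 := hη _ (ha.act u)
  have h4 := hη _ ha.neg
  rw [D.cor_neg ha, dotProduct_neg] at h4
  have h5 : (η + n • D.wt β) ⬝ᵥ D.cor a = η ⬝ᵥ D.cor a + n * cp D β a := by
    rw [add_dotProduct, smul_dotProduct, wt_dot_cor D _ ha, smul_eq_mul]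
  rw [hu, h5] at h2
  have h6 : cp D β a = 2 := le_antisymm (by nlinarith) h1
  have h7 : η ⬝ᵥ D.cor a = -n := by
    rw [h6] at h2
    linarith
  have h8 := hH a ha (h7 ▸ (dvd_refl n).neg_right)
  have h9 := two_form_cpr D.cs D.h β ha
  have h10 := form_pos D.cs D.h ha.ne_zero
  have h11 := form_nonneg D.cs D.h (β - a)
  refine (H.mul_mem_cancel_right h8).1 (ih _ ?_ _ (β - a) ?_ rfl)
  · rw [form_sub_left, form_sub_right, form_sub_right, form_comm _ _ a β] at h11 ⊢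
    rw [show cpr D.cs D.h β a = 2 from h6] at h9
    omega
  · rw [D.Wm_mul, ← vecMul_vecMul, hu, vecMul_rf D _ ha, h5, h6, h7, map_sub, smul_sub, show -n + n * 2 = n by ring]
    abel

theorem exists_log (hl : l.Prime) (hc : IsL l c) :
    ∃ (j : ℕ) (x : D.R → ℤ) (ω : ℂˣ), IsPrimitiveRoot ω (l ^ j) ∧ ∀ y, chr y c = ω ^ (x ⬝ᵥ y) := by
  obtain ⟨j, hj⟩ := hc
  have hn : l ^ j ≠ 0 := pow_ne_zero _ hl.ne_zero
  have : NeZero (l ^ j) := ⟨hn⟩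
  have h1 := Complex.isPrimitiveRoot_exp _ hn
  have hω := h1.isUnit_unit hn
  choose x _ hx using fun i => hω.eq_pow_of_mem_rootsOfUnity (ξ := c i) (congrFun hj i)
  refine ⟨j, fun i => x i, _, hω, fun y => ?_⟩
  rw [dotProduct_comm, dotProduct, ← chr_coch]
  congr 1
  funext i
  rw [coch_apply, zpow_natCast, hx]

/-- **Steinberg**: the stabiliser of a label is generated by reflections -/
theorem stab_le (hl : l.Prime) (hG : ∀ β : D.I → ℤ, (∀ j, (l : ℤ) ∣ D.wt β j) → ∀ i, (l : ℤ) ∣ β i) (hc : IsL l c)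
    {H : Subgroup D.W} (hH : ∀ a, D.Rt a → chr (D.cor a) c = 1 → D.rf a ∈ H) {u : D.W} (hu : Rel D u c c) : u ∈ H := by
  obtain ⟨j, x, ω, hω, hx⟩ := exists_log hl hc
  have h1 : ∀ (j : ℕ) (β : D.I → ℤ), (∀ i, (l : ℤ) ^ j ∣ D.wt β i) → ∃ β', β = (l : ℤ) ^ j • β' := fun j => by
    induction j with
    | zero => exact fun β _ => ⟨β, by simp⟩
    | succ j ih =>
      intro β h
      obtain ⟨β, rfl⟩ := ih β fun i => (pow_dvd_pow _ j.le_succ).trans (h i)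
      choose β' h2 using hG β fun i => by
        have := h i
        rwa [map_zsmul, Pi.smul_apply, smul_eq_mul, pow_succ,
          mul_dvd_mul_iff_left (pow_ne_zero _ (Int.natCast_ne_zero.2 hl.ne_zero))] at this
      exact ⟨β', by rw [pow_succ, mul_smul, show β = (l : ℤ) • β' from funext h2]⟩
  obtain ⟨β, hβ⟩ := exists_wt D x u
  obtain ⟨β, rfl⟩ := h1 j β fun i => by
    have := hu (Pi.single i 1)
    rw [hx, hx, dotProduct_mulVec, hβ, add_dotProduct, _root_.zpow_add, mul_eq_left, hω.zpow_eq_one_iff_dvd,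
      dotProduct_single, mul_one] at this
    exact_mod_cast this
  have hn : (0 : ℤ) < l ^ j := pow_pos (Int.natCast_pos.2 hl.pos) j
  obtain ⟨μ, hμ⟩ := exists_small x hn
  refine mem_of_aff hn hμ (fun a ha h => hH a ha ?_) u (β + μ - D.act u⁻¹ μ) ?_
  · rw [sub_dotProduct, smul_dotProduct, smul_eq_mul, dvd_sub_left (Dvd.intro _ rfl)] at h
    rw [hx, hω.zpow_eq_one_iff_dvd]
    exact_mod_cast h
  · rw [sub_vecMul, hβ, smul_vecMul, ← D.wt_act', map_sub, map_add, smul_sub, smul_add, map_zsmul]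
    abel

theorem std_of {K : Set D.I} (hq : D.QS) (h1 : ∀ a, D.Rt a → (chr (D.cor a) c = 1 ↔ ∀ i, i ∉ K → a i = 0))
    (h2 : ∀ u, Rel D u c c ↔ u ∈ WJ D.cs K) (hw : Fx D w c) : ∃ x ∈ WJ D.cs K, ∃ w₁, w = x * w₁ ∧ Std D K w₁ c := by
  obtain ⟨d, e, L⟩ := exists_lvl D
  obtain ⟨x, hx, w₁, rfl, hm⟩ := exists_isMinL D.cs K w
  have h3 : Fx D w₁ c := by simpa using hw.mul ((h2 _).2 (inv_mem hx))
  refine ⟨x, hx, w₁, rfl, h1, h2, fun w => ⟨fun h => (h2 _).1 (h3.div h L), fun h => by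
    simpa using h3.mul ((h2 _).2 h)⟩, hm, fun i hi => ?_⟩
  have hr := isRoot_sr D.cs D.h i
  have hb := (D.g_root _ hr).act w₁
  have h4 := (h3.cor_iff L hr).2 ((h1 _ hr).2 fun j hj => sr_ne fun e => hj (e ▸ hi))
  have h5 : w₁ * D.Fw (D.cs.simple i) = D.rf (D.act w₁ (D.g (sr i))) * w₁ := by
    rw [D.rf_act' _ (D.g_root _ hr), ← D.Fw_rf hr, D.rf_sr, inv_mul_cancel_right]
  have h6 : 0 ≤ D.act w₁ (D.g (sr i)) := hb.pos_or_neg.resolve_right fun h => (D.g_root _ hr).not_pos_neg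
    (hq _ hr (sr_nonneg i)) (act_inv_act D w₁ (D.g _) ▸ act_inv_nonpos hm h ((h1 _ hb).1 h4))
  have h8 := D.cs.length_mul_le w₁ (D.cs.simple (D.σ i))
  rw [D.cs.length_simple, ← hq.Fw_simple, h5, hm _ ((h2 _).1 (rel_rf hb h4)), add_comm _ 1] at h8
  have h9 := D.act_rf_self hb
  obtain ⟨j, hj⟩ := D.cs.length_eq_one_iff.1 (show D.cs.length (D.rf (D.act w₁ (D.g (sr i)))) = 1 by
    refine le_antisymm (Nat.le_of_add_le_add_right h8) (Nat.pos_of_ne_zero fun e => ?_)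
    rw [D.cs.length_eq_zero_iff.1 e, CF.act_one] at h9
    exact hb.not_pos_neg h6 (neg_nonneg.1 (h9 ▸ h6)))
  have h10 : D.act w₁ (D.g (sr i)) = sr j := by_contra fun e =>
    hb.not_pos_neg h6 (neg_nonneg.1 (h9 ▸ hj ▸ hb.simple_nonneg h6 j e))
  refine ⟨j, by_contra fun e => ?_, h10, hj ▸ h5⟩
  have := (h1 _ hb).1 h4 j e
  rw [show rep D.cs D.h w₁ _ = _ from h10, sr_self] at this
  exact one_ne_zero this

/-- **Standard position.** -/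
theorem exists_std' (hq : D.QS) (hl : l.Prime) (hG : Good D l) (hc : IsL l c) (hw : Fx D w c) :
    ∃ v c' K w₁, ∃ x ∈ WJ D.cs K, Rel D v c c' ∧ Tc D v w (x * w₁) ∧ IsL l c' ∧ Std D K w₁ c' := by
  obtain ⟨j, x, ω, hω, hx⟩ := exists_log hl hc
  obtain ⟨x', h1⟩ := hG.lev j x
  obtain ⟨v, hv⟩ := CF.exists_dominant D (Lf D x')
  simp only [Lf_act] at hv
  have h2 := rel_ac v⁻¹ c
  have h3 := Cj.isL ⟨_, h2⟩ hc
  have h4 : ∀ a, D.Rt a → (chr (D.cor a) (ac D v⁻¹ c) = 1 ↔ Lf D (x' ᵥ* D.Wm v) a = 0) := fun a ha => by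
    rw [← h2.symm, inv_inv, ← D.cor_act v ha, hx, hω.zpow_eq_one_iff_dvd, ← Lf_act, Lf_zero _ (ha.act v), ← h1 _ (ha.act v),
      Nat.cast_pow]
  generalize Lf D (x' ᵥ* D.Wm v) = L at hv h4
  obtain ⟨z, hz, w₁, e, h5⟩ := std_of (K := {i | L (sr i) = 0}) hq (fun a ha => by
      rw [h4 a ha, D.map_eq_sum L a]
      rcases ha.pos_or_neg with h | h
      · rw [Finset.sum_eq_zero_iff_of_nonneg fun i _ => mul_nonneg (h i) (hv i)]
        simp [or_iff_not_imp_right]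
      · rw [Finset.sum_eq_zero_iff_of_nonpos fun i _ => mul_nonpos_of_nonpos_of_nonneg (h i) (hv i)]
        simp [or_iff_not_imp_right])
    (fun u => ⟨stab_le hl hG.tf h3 fun a ha h => CF.mem_of_fix_dom D L hv (fun i hi => simple_mem_WJ _ hi) _ fun b => by
        rw [D.act_rf ha, map_sub, map_zsmul, (h4 a ha).1 h, smul_zero, sub_zero],
      fun hu => (Subgroup.closure_le (St D _)).2 (by
        rintro _ ⟨i, hi, rfl⟩
        exact D.rf_sr i ▸ rel_rf (isRoot_sr _ _ i) ((h4 _ (isRoot_sr _ _ i)).2 hi)) hu⟩)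
    (fx_of_tc (tc_self' v⁻¹ w) h2 hw)
  exact ⟨_, _, _, w₁, z, hz, h2, e ▸ tc_self' v⁻¹ w, h3, h5⟩

theorem exists_std (hq : D.QS) (hl : l.Prime) (hG : Good D l) (hc : IsL l c) (hw : Fx D w c) :
    ∃ c' K w₁, Cj D c c' ∧ IsL l c' ∧ Std D K w₁ c' := by
  obtain ⟨v, c', K, w₁, -, -, h1, -, h2, h3⟩ := exists_std' hq hl hG hc hw
  exact ⟨c', K, w₁, ⟨v, h1⟩, h2, h3⟩

/-- the trivial label -/
theorem std_one (hq : D.QS) : Std D Set.univ 1 1 where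
  cor _ _ := by simp
  stab u := iff_of_true (show u ∈ St D 1 from St_one (D := D) ▸ trivial) (mem_WJ_univ _ u)
  fx w := iff_of_true (fun v => by rw [map_one, map_one]) (mem_WJ_univ _ _)
  min u _ := by rw [mul_one, D.cs.length_one, add_zero]
  node i _ := ⟨D.σ i, trivial, by rw [CF.act_one, hq.g_sr], by rw [one_mul, mul_one, hq.Fw_simple]⟩

/-! ### good primes -/

/-- classical data -/
theorem lev_of_small (hl : Odd l) (h : ∀ a, D.Rt a → ∑ i, |D.cor a i| ≤ 2) (j : ℕ) (x : D.R → ℤ) :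
    ∃ x' : D.R → ℤ, ∀ a, D.Rt a → ((l : ℤ) ^ j ∣ x ⬝ᵥ D.cor a ↔ x' ⬝ᵥ D.cor a = 0) := by
  obtain ⟨m, hm⟩ := hl.pow (n := j)
  rw [← Nat.cast_pow, hm]
  refine ⟨fun i => (x i).bmod (2 * m + 1), fun a ha => ?_⟩
  have h1 : ((2 * m + 1 : ℕ) : ℤ) ∣ (fun i => (x i).bmod (2 * m + 1)) ⬝ᵥ D.cor a - x ⬝ᵥ D.cor a := by
    rw [← sub_dotProduct]
    exact Finset.dvd_sum fun i _ => Dvd.dvd.mul_right Int.dvd_bmod_sub_self _
  refine ⟨fun e => Int.eq_zero_of_abs_lt_dvd (by simpa using h1.add e) ?_, fun e => by simpa [e] using h1⟩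
  have h2 : |(fun i => (x i).bmod (2 * m + 1)) ⬝ᵥ D.cor a| ≤ m * ∑ i, |D.cor a i| := by
    rw [Finset.mul_sum]
    refine (Finset.abs_sum_le_sum_abs _ _).trans (Finset.sum_le_sum fun i _ => ?_)
    rw [abs_mul]
    have h3 := Int.le_bmod (x := x i) (m := 2 * m + 1) (by omega)
    have h4 := Int.bmod_le (x := x i) (m := 2 * m + 1) (by omega)
    exact mul_le_mul_of_nonneg_right (abs_le.2 ⟨by beta_reduce; omega, by beta_reduce; omega⟩) (abs_nonneg _)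
  have h3 := mul_le_mul_of_nonneg_left (h a ha) (Int.natCast_nonneg m)
  omega

/-- data with a highest coroot -/
theorem lev_of_high (hl : l.Prime) {θ m : D.I → ℤ} (hθ : D.Rt θ) (hm : D.cor θ = ∑ i, m i • D.cw i)
    (h1 : ∀ i, ¬ (l : ℤ) ∣ m i) (h : ∀ a, D.Rt a → 0 ≤ a → ∃ k : D.I → ℤ, D.cor a = ∑ i, k i • D.cw i ∧ 0 ≤ k ∧ k ≤ m)
    (j : ℕ) (x : D.R → ℤ) : ∃ x' : D.R → ℤ, ∀ a, D.Rt a → ((l : ℤ) ^ j ∣ x ⬝ᵥ D.cor a ↔ x' ⬝ᵥ D.cor a = 0) := by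
  have hn : (0 : ℤ) < l ^ j := pow_pos (Int.natCast_pos.2 hl.pos) j
  obtain ⟨μ, hμ⟩ := exists_small x hn
  obtain ⟨v, hv⟩ := CF.exists_dominant D (Lf D (x - (l : ℤ) ^ j • D.wt μ))
  suffices H : ∀ η : D.R → ℤ, (∀ i, 0 ≤ η ⬝ᵥ D.cw i) → η ⬝ᵥ D.cor θ ≤ l ^ j →
      ∃ x' : D.R → ℤ, ∀ a, D.Rt a → 0 ≤ a → ((l : ℤ) ^ j ∣ η ⬝ᵥ D.cor a ↔ x' ⬝ᵥ D.cor a = 0) by
    obtain ⟨x', h2⟩ := H ((x - (l : ℤ) ^ j • D.wt μ) ᵥ* D.Wm v) (fun i => by
      rw [← D.cor_sr]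
      exact Lf_nonneg _ (isRoot_sr _ _ i) (Lf_act _ v _ ▸ hv i)) (dot_cor_act D _ v hθ ▸ hμ _ (hθ.act v))
    refine ⟨x' ᵥ* D.Wm v⁻¹, fun a ha => ?_⟩
    have h3 : ∀ a, D.Rt a → ((l : ℤ) ^ j ∣ ((x - (l : ℤ) ^ j • D.wt μ) ᵥ* D.Wm v) ⬝ᵥ D.cor a ↔ x' ⬝ᵥ D.cor a = 0) :=
      fun a ha => ha.pos_or_neg.elim (h2 a ha) fun e => by
        simpa only [D.cor_neg ha, dotProduct_neg, dvd_neg, neg_eq_zero] using h2 _ ha.neg (neg_nonneg.2 e)
    rw [← dot_cor_act D _ _ ha, ← h3 _ (ha.act _), ← dot_cor_act D _ _ (ha.act _), show D.act v _ = a from act_act_inv D v a,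
      sub_dotProduct, smul_dotProduct, smul_eq_mul, dvd_sub_left (Dvd.intro _ rfl)]
  intro η h2 h3
  have h4 : ∀ (η : D.R → ℤ) (k : D.I → ℤ), η ⬝ᵥ ∑ i, k i • D.cw i = ∑ i, k i * (η ⬝ᵥ D.cw i) := fun η k => by
    simp only [dotProduct_sum, dotProduct_smul, smul_eq_mul]
  rw [hm, h4] at h3
  have h5 : ∀ k : D.I → ℤ, 0 ≤ k → ∀ i ∈ Finset.univ, 0 ≤ k i * (η ⬝ᵥ D.cw i) := fun k hk i _ => mul_nonneg (hk i) (h2 i)
  have h6 : ∀ k : D.I → ℤ, k ≤ m → ∀ i ∈ Finset.univ, k i * (η ⬝ᵥ D.cw i) ≤ m i * (η ⬝ᵥ D.cw i) :=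
    fun k hk i _ => mul_le_mul_of_nonneg_right (hk i) (h2 i)
  rcases h3.lt_or_eq with h3 | h3
  · refine ⟨η, fun a ha h0 => ⟨fun e => ?_, fun e => e ▸ dvd_zero _⟩⟩
    obtain ⟨k, e', k0, km⟩ := h a ha h0
    rw [e', h4] at e ⊢
    exact Int.eq_zero_of_dvd_of_nonneg_of_lt (Finset.sum_nonneg (h5 k k0)) ((Finset.sum_le_sum (h6 k km)).trans_lt h3) e
  obtain ⟨i, -, hi⟩ := Finset.exists_ne_zero_of_sum_ne_zero (h3 ▸ hn.ne')
  have h7 : ∀ i', D.wt ((Wt D * (of D.cw)ᵀ).adjugate i) ⬝ᵥ D.cw i' =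
      (Wt D * (of D.cw)ᵀ).det * if i = i' then 1 else 0 := fun i' => by
    have h8 := congrFun (congrFun (adjugate_mul (Wt D * (of D.cw)ᵀ)) i) i'
    rw [← Matrix.mul_assoc, mul_apply', Matrix.smul_apply, one_apply, smul_eq_mul] at h8
    rw [← vecMul_Wt]
    exact h8
  refine ⟨((Wt D * (of D.cw)ᵀ).det * m i) • η - (l : ℤ) ^ j • D.wt ((Wt D * (of D.cw)ᵀ).adjugate i), fun a ha h0 => ?_⟩
  obtain ⟨k, e', k0, km⟩ := h a ha h0
  rw [e', sub_dotProduct, smul_dotProduct, smul_dotProduct, h4, h4]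
  simp only [h7, mul_ite, mul_one, mul_zero, Finset.sum_ite_eq, Finset.mem_univ, if_true, smul_eq_mul]
  rw [mul_comm (k i), mul_left_comm, mul_assoc, ← mul_sub, mul_eq_zero_iff_left (det_cartan D), sub_eq_zero]
  refine ⟨fun e => ?_, fun e => (((Nat.prime_iff_prime_int.1 hl).coprime_iff_not_dvd.2 (h1 i)).pow_left
    (m := j)).dvd_of_dvd_mul_left (Dvd.intro _ e.symm)⟩
  rcases (Finset.sum_le_sum (h6 k km)).lt_or_eq with h8 | h8
  · have h9 := Int.eq_zero_of_dvd_of_nonneg_of_lt (Finset.sum_nonneg (h5 k k0)) (h8.trans_eq h3) e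
    rw [h9, (mul_eq_zero.1 ((Finset.sum_eq_zero_iff_of_nonneg (h5 k k0)).1 h9 i (Finset.mem_univ i))).resolve_right
      (right_ne_zero_of_mul hi), mul_zero, mul_zero]
  · rw [h8, h3, mul_right_cancel₀ (right_ne_zero_of_mul hi)
      ((Finset.sum_eq_sum_iff_of_le (h6 k km)).1 h8 i (Finset.mem_univ i)), mul_comm]

end Cfsg.Agent.LV.Lab
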