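import Cfsg.Agent.LV.Lab.LvK
import Cfsg.Agent.KZ.DatX.Weyl

/-!
# LV, the label layer: good primes (helper2)

`good_G2`, `good_B2`, `good_D4`, `good_F4`, `good_E6`, `good_E7`, `good_E8` for the data `X.D`, `good_Fm` for the classical
frames, `good_of_spm`.
-/

set_option autoImplicit false
set_option linter.unusedSectionVars false
set_option maxHeartbeats 400000

namespace Cfsg.Agent.LV.Lab

open Cfsg Cfsg.Lie Cfsg.Agent.DL Cfsg.Agent.DL.PP Cfsg.Agent.KZ.Lie Cfsg.Agent.Tits.Core Cfsg.Agent.Tits.Roots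
  Cfsg.Agent.LV.T Cfsg.Agent.LV.Blk Cfsg.Agent.ChevalleyStructure.CoxeterGeom
  Cfsg.Agent.ChevalleyStructure.CoxeterGeomTypes Cfsg.Agent.ChevalleyStructure.NPerm Cfsg.Agent.KZ.DatX Cfsg.Agent.KZ.Dat
  Cfsg.Agent.Nodes.Coroot Cfsg.Agent.Nodes.RGDChev Matrix

/-- a simple reflection on the coefficients of a coroot -/
def rk {I : Type} [Fintype I] [DecidableEq I] (A : I → I → ℤ) (i : I) (m : I → ℤ) : I → ℤ :=
  fun j => m j - if j = i then ∑ j', m j' * A j' i else 0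

section Gen

variable {p : ℕ} [Fact p.Prime] {k : Type} [Field k] [CharP k p] {Y : Type} [Group Y] {N : Type} [Fintype N]
  [DecidableEq N] {ρ : Y →* GL N k} {F : MulAut Y} {G : Subgroup Y} [IsAlgClosed k] {D : Datum p ρ F G} {l : ℕ}

theorem sum_sr (i : D.I) : ∑ j, sr i j • D.cw j = D.cw i := by simp [sr, Pi.single_apply]

theorem Wm_sum {A : D.I → D.I → ℤ} (hA : ∀ i j, D.wt (sr i) ⬝ᵥ D.cw j = A j i) (i : D.I) (m : D.I → ℤ) :
    D.Wm (D.cs.simple i) *ᵥ ∑ j, m j • D.cw j = ∑ j, rk A i m j • D.cw j := by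
  simp only [D.Wm_simple, sub_mulVec, one_mulVec, vecMulVec_mulVec, op_smul_eq_smul, dotProduct_sum, dotProduct_smul, hA, rk,
    sub_smul, Finset.sum_sub_distrib, ite_smul, zero_smul, Finset.sum_ite_eq', Finset.mem_univ, if_true, smul_eq_mul]

/-- the coroot of a positive root is not negative -/
theorem cor_sign {a m : D.I → ℤ} (ha : D.Rt a) (h0 : 0 ≤ a) (hm : 0 ≤ m) (h : D.cor a = -∑ i, m i • D.cw i) : m = 0 := by
  have h7 : ∀ i', D.wt ((Wt D * (of D.cw)ᵀ).det • ∑ i, (Wt D * (of D.cw)ᵀ).adjugate i) ⬝ᵥ D.cw i' =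
      (Wt D * (of D.cw)ᵀ).det ^ 2 := fun i' => by
    have h8 : ∀ i, D.wt ((Wt D * (of D.cw)ᵀ).adjugate i) ⬝ᵥ D.cw i' =
        (Wt D * (of D.cw)ᵀ).det * if i = i' then 1 else 0 := fun i => by
      have h8 := congrFun (congrFun (adjugate_mul (Wt D * (of D.cw)ᵀ)) i) i'
      rw [← Matrix.mul_assoc, mul_apply', Matrix.smul_apply, one_apply, smul_eq_mul] at h8
      rw [← vecMul_Wt]
      exact h8
    rw [map_zsmul, map_sum D.wt fun i => (Wt D * (of D.cw)ᵀ).adjugate i]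
    simp only [smul_dotProduct, sum_dotProduct, h8, mul_ite, mul_one, mul_zero, Finset.sum_ite_eq',
      Finset.mem_univ, if_true, smul_eq_mul, sq]
  generalize D.wt _ = η at h7
  have h1 := sq_pos_of_ne_zero (det_cartan D)
  have h2 := Lf_nonneg η ha (by
    rw [D.map_eq_sum]
    refine Finset.sum_nonneg fun i _ => mul_nonneg (h0 i) ?_
    have h3 : 2 * Lf D η (sr i) = _ := two_sum' D η (isRoot_sr _ _ i)
    have h4 := mul_pos (sum_sq_pos' D (isRoot_sr _ _ i)) h1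
    rw [D.cor_sr, h7] at h3
    omega)
  simp only [h, dotProduct_neg, dotProduct_sum, dotProduct_smul, h7, smul_eq_mul, ← Finset.sum_mul, neg_nonneg] at h2
  exact funext fun i => (Finset.sum_eq_zero_iff_of_nonneg fun i _ => hm i).1
    (le_antisymm (nonpos_of_mul_nonpos_left h2 h1) (Finset.sum_nonneg fun i _ => hm i)) i (Finset.mem_univ i)

/-- the coefficients of the coroots from a set which is closed under the simple reflections -/
theorem cor_mem {A : D.I → D.I → ℤ} (hA : ∀ i j, D.wt (sr i) ⬝ᵥ D.cw j = A j i) {P : (D.I → ℤ) → Prop} (h0 : ∀ i, P (sr i))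
    (hs : ∀ m, P m → ∀ i, m = sr i ∨ P (rk A i m)) {a : D.I → ℤ} (ha : D.Rt a) :
    ∃ m, P m ∧ (D.cor a = ∑ i, m i • D.cw i ∨ D.cor a = -∑ i, m i • D.cw i) := by
  obtain ⟨w, i, rfl⟩ := ha
  rw [show D.cor (rep D.cs D.h w (sr i)) = _ from D.cor_act_sr w i]
  induction w using D.cs.simple_induction_left with
  | one => exact ⟨_, h0 i, .inl (by rw [D.Wm_one, one_mulVec, sum_sr])⟩
  | mul_simple_left w j ih =>
    obtain ⟨m, h1, h2⟩ := ih
    rw [D.Wm_mul, ← mulVec_mulVec]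
    rcases hs m h1 j with rfl | h3
    · have h4 : D.Wm (D.cs.simple j) *ᵥ D.cw j = -D.cw j := by
        rw [← D.cor_sr, ← D.cor_act _ (isRoot_sr _ _ j), ← D.rf_sr, D.act_rf_self (isRoot_sr _ _ j),
          D.cor_neg (isRoot_sr _ _ j)]
      rw [sum_sr] at h2
      exact ⟨_, h1, h2.symm.imp (fun e => by rw [e, mulVec_neg, h4, neg_neg, sum_sr]) fun e => by rw [e, h4, sum_sr]⟩
    · exact ⟨_, h3, h2.imp (fun e => by rw [e, Wm_sum hA]) fun e => by rw [e, mulVec_neg, Wm_sum hA]⟩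

/-- signed permutation matrices in some basis -/
theorem good_of_spm (hl : Odd l) {ι : Type} [Fintype ι] [DecidableEq ι] {P : Matrix ι D.R ℤ} {P' : Matrix D.R ι ℤ}
    (h1 : P * P' = 1) (h2 : P' * P = 1) (hW : ∀ w, ∃ (π : Equiv.Perm ι) (s : ι → ℤˣ), P * D.Wm w = spm π s * P)
    (hn : ∀ i, ∃ w, P i ᵥ* D.Wm w = -P i) : Good D l where
  tf β h i := by
    choose γ hγ using h
    choose w hw using hn
    choose δ hδ using fun i => exists_wt D (P i) (w i)
    have h3 : D.wt ((-2 : ℤ) • β) = D.wt ((l : ℤ) • ∑ i, (γ ᵥ* P') i • δ i) := by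
      have h4 : ∀ i, D.wt (δ i) = (-2 : ℤ) • P i := fun i => by
        rw [eq_sub_of_add_eq' ((hδ i).symm.trans (hw i)), neg_smul, two_smul, neg_add, sub_eq_add_neg]
      have h5 : γ = ∑ i, (γ ᵥ* P') i • P i := by rw [← vecMul_eq_sum, vecMul_vecMul, h2, vecMul_one]
      simp only [map_zsmul, map_sum, h4, smul_comm _ (-2 : ℤ), ← Finset.smul_sum, ← h5]
      exact congrArg _ (funext hγ)
    have h4 := congrFun (D.wt_injective h3) i
    refine (Int.isCoprime_iff_gcd_eq_one.2 ?_ : IsCoprime (l : ℤ) (-2)).dvd_of_dvd_mul_left ⟨_, h4⟩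
    exact (Nat.coprime_two_right.2 hl :)
  lev j x := by
    have h : ∀ a, D.Rt a → ∑ i, |(P *ᵥ D.cor a) i| ≤ 2 := fun a ha => by
      obtain ⟨π, s, h3⟩ := hW (D.rf a)
      have h4 : vecMulVec (P *ᵥ D.cor a) (D.wt a ᵥ* P') = 1 - spm π s := by
        rw [show spm π s = P * D.Wm (D.rf a) * P' by rw [h3, Matrix.mul_assoc, h1, Matrix.mul_one], D.Wm_rf ha,
          Matrix.mul_sub, Matrix.mul_one, Matrix.sub_mul, mul_vecMulVec, vecMulVec_mul, h1, sub_sub_cancel]
      obtain ⟨j, -, hj⟩ := Finset.exists_ne_zero_of_sum_ne_zero (show (D.wt a ᵥ* P') ⬝ᵥ (P *ᵥ D.cor a) ≠ 0 by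
        rw [← dotProduct_mulVec, mulVec_mulVec, h2, one_mulVec, wt_dot_cor D a ha, cp, cpr_self _ _ ha]
        exact two_ne_zero)
      refine (Finset.sum_le_sum (g := fun i => (if i = j then 1 else 0) + if i = π j then 1 else 0) fun i _ => ?_).trans_eq
        (by simp [Finset.sum_add_distrib])
      refine (le_mul_of_one_le_right (abs_nonneg _) (Int.one_le_abs (left_ne_zero_of_mul hj))).trans ?_
      rw [← abs_mul, ← vecMulVec_apply, h4, Matrix.sub_apply, one_apply, spm_apply]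
      refine (abs_sub _ _).trans_eq ?_
      split_ifs <;> simp [Int.isUnit_iff_abs_eq.1 (s j).isUnit]
    obtain ⟨m, hm⟩ := hl.pow (n := j)
    rw [← Nat.cast_pow, hm]
    refine ⟨(fun i => ((x ᵥ* P') i).bmod (2 * m + 1)) ᵥ* P, fun a ha => ?_⟩
    rw [← dotProduct_mulVec, show x ⬝ᵥ D.cor a = (x ᵥ* P') ⬝ᵥ (P *ᵥ D.cor a) by
      rw [← dotProduct_mulVec, mulVec_mulVec, h2, one_mulVec]]
    have h0 := h a ha
    generalize x ᵥ* P' = y, P *ᵥ D.cor a = v at h0 ⊢
    have h3 : ((2 * m + 1 : ℕ) : ℤ) ∣ (fun i => (y i).bmod (2 * m + 1)) ⬝ᵥ v - y ⬝ᵥ v := by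
      rw [← sub_dotProduct]
      exact Finset.dvd_sum fun i _ => Dvd.dvd.mul_right Int.dvd_bmod_sub_self _
    refine ⟨fun e => Int.eq_zero_of_abs_lt_dvd (by simpa using h3.add e) ?_, fun e => by simpa [e] using h3⟩
    have h4 : |(fun i => (y i).bmod (2 * m + 1)) ⬝ᵥ v| ≤ m * ∑ i, |v i| := by
      rw [Finset.mul_sum]
      refine (Finset.abs_sum_le_sum_abs _ _).trans (Finset.sum_le_sum fun i _ => ?_)
      rw [abs_mul]
      have h5 := Int.le_bmod (x := y i) (m := 2 * m + 1) (by omega)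
      have h6 := Int.bmod_le (x := y i) (m := 2 * m + 1) (by omega)
      exact mul_le_mul_of_nonneg_right (abs_le.2 ⟨by beta_reduce; omega, by beta_reduce; omega⟩) (abs_nonneg _)
    have h5 := mul_le_mul_of_nonneg_left h0 (Int.natCast_nonneg m)
    omega

/-- **The classical frames.** -/
theorem good_Fm {n q : ℕ} {b : Bool} (Φ : Cl.Fm D n b q) (hl : Odd l) : Good D l := by
  refine good_of_spm hl Φ.PP' Φ.P'P (fun w => ⟨_, _, Φ.hW w⟩) fun i => ?_
  have : Nontrivial (Fin n) := Fin.nontrivial_iff_two_le.2 Φ.E.two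
  obtain ⟨j, hj⟩ := exists_ne i
  obtain ⟨w, hw⟩ := Φ.E.surj (Cl.tt i * Cl.tt j) fun _ => by
    have h : ∀ x : Fin n, Cl.sgn (Cl.tt x) = -1 := fun x => by simp [Cl.sgn, Cl.tt]
    rw [map_mul, h, h, neg_mul_neg, one_mul]
  refine ⟨w, funext fun r => (congrFun (congrFun (Φ.hW w) i) r).trans ?_⟩
  simp [hw, mul_apply, spm_apply, Cl.tt, hj.symm]

end Gen

/-! ### the exceptional data -/

variable {C : ChevalleyDatum} {n : ℕ} {M : CoxeterMatrix (Fin n)}

/-- the digits -/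
def dg (n x : ℕ) (j : Fin n) : ℤ := (x / 10 ^ (j : ℕ) % 10 : ℕ)

/-- the table -/
def tb (n : ℕ) (A : List (List ℤ)) (i j : Fin n) : ℤ := (A.getD i []).getD j 0

/-- the reflection on the codes -/
def nx (A : List (List ℤ)) (x : ℕ) (i : Fin n) : ℕ := (x - (∑ j, dg n x j * tb n A j i) * 10 ^ (i : ℕ)).toNat

/-- `L` lists the positive coroots, `m` is the highest one -/
def Cert (n : ℕ) (A : List (List ℤ)) (L : List ℕ) (m b : ℕ) : Prop :=
  (∀ i : Fin n, 10 ^ (i : ℕ) ∈ L ∧ sr i = dg n (10 ^ (i : ℕ)) ∧ 0 < dg n m i ∧ dg n m i ≤ b) ∧ m ∈ L ∧ ∀ x ∈ L,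
    (∀ i, dg n x = sr i ∨ nx A x i ∈ L ∧ rk (tb n A) i (dg n x) = dg n (nx A x i)) ∧ (∀ i, dg n x i ≤ dg n m i) ∧
    ∃ i, dg n x = sr i ∨ nx A x i < x ∧ nx A x i ∈ L ∧ dg n x = rk (tb n A) i (dg n (nx A x i))

instance decCert (n : ℕ) (A : List (List ℤ)) (L : List ℕ) (m b : ℕ) : Decidable (Cert n A L m b) := by
  unfold Cert; infer_instance

variable {p : ℕ} [Fact p.Prime] {k : Type} [Field k] [CharP k p] [IsAlgClosed k] {l : ℕ}

theorem good_of_cert {hp : IsType C n M} {Mx : Matrix (Fin n) (Fin n) ℤ} (X : XF hp p k Mx) {A : List (List ℤ)}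
    (hA : IsRows C n A) {L : List ℕ} {m b : ℕ} (h : Cert n A L m b) (hl : l.Prime) (hb : b < l) : Good X.D l := by
  obtain ⟨h1, h2, h3⟩ := h
  have hA' : ∀ i j : Fin n, X.D.wt (sr i) ⬝ᵥ X.D.cw j = tb n A j i := fun i j => by
    rw [tb, hA, getD_ofFn]
    exact (single_dotProduct (cartanOf C n j) 1 i).trans (one_mul _)
  have h4 : ∀ x ∈ L, ∃ θ, X.D.Rt θ ∧ X.D.cor θ = ∑ i, dg n x i • X.D.cw i := fun x => by
    induction x using Nat.strong_induction_on with
    | _ x ih =>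
      intro hx
      obtain ⟨i, e | ⟨h5, h6, e⟩⟩ := (h3 x hx).2.2
      · exact ⟨_, isRoot_sr _ _ i, by rw [e]; exact (X.D.cor_sr i).trans (sum_sr (D := X.D) i).symm⟩
      · obtain ⟨θ, h7, h8⟩ := ih _ h5 h6
        exact ⟨_, h7.act (X.D.cs.simple i), by
          rw [e]; exact (X.D.cor_act _ h7).trans ((congrArg _ h8).trans (Wm_sum (D := X.D) hA' i _))⟩
  obtain ⟨θ, h5, h6⟩ := h4 m h2
  refine ⟨fun _ h => h, lev_of_high hl h5 h6 (fun i e => ?_) fun a ha h0 => ?_⟩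
  · have := Int.le_of_dvd (h1 i).2.2.1 e
    have := (h1 i).2.2.2
    omega
  · obtain ⟨_, ⟨x, hx, rfl⟩, h7⟩ := cor_mem hA' (P := fun v => ∃ x ∈ L, v = dg n x) (fun i => ⟨_, (h1 i).1, (h1 i).2.1⟩)
      (by
        rintro _ ⟨x, hx, rfl⟩ i
        exact ((h3 x hx).1 i).imp_right fun e => ⟨_, e.1, e.2⟩) ha
    have h8 : 0 ≤ dg n x := fun _ => Int.natCast_nonneg _
    refine ⟨dg n x, h7.elim id fun e => ?_, h8, (h3 x hx).2.1⟩
    rw [e, cor_sign ha h0 h8 e]
    simp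

/-- the positive coroots of `E₈` -/
def L8 : List ℕ := [1, 10, 100, 101, 1000, 1010, 1100, 1101, 1110, 1111, 10000, 11000, 11010, 11100, 11101, 11110, 11111,
  12110, 12111, 12211, 100000, 110000, 111000, 111010, 111100, 111101, 111110, 111111, 112110, 112111, 112211, 122110, 122111,
  122211, 123211, 123221, 1000000, 1100000, 1110000, 1111000, 1111010, 1111100, 1111101, 1111110, 1111111, 1112110, 1112111,
  1112211, 1122110, 1122111, 1122211, 1123211, 1123221, 1222110, 1222111, 1222211, 1223211, 1223221, 1233211, 1233221, 1234221,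
  1234321, 1234322, 10000000, 11000000, 11100000, 11110000, 11111000, 11111010, 11111100, 11111101, 11111110, 11111111,
  11112110, 11112111, 11112211, 11122110, 11122111, 11122211, 11123211, 11123221, 11222110, 11222111, 11222211, 11223211,
  11223221, 11233211, 11233221, 11234221, 11234321, 11234322, 12222110, 12222111, 12222211, 12223211, 12223221, 12233211,
  12233221, 12234221, 12234321, 12234322, 12333211, 12333221, 12334221, 12334321, 12334322, 12344221, 12344321, 12344322,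
  12345321, 12345322, 12345331, 12345332, 12345422, 12345432, 12346432, 12356432, 12456432, 13456432, 23456432]

theorem cert_G2 : Cert 2 rowsG2 [1, 10, 11, 21, 31, 32] 32 4 := by decide +kernel

theorem cert_B2 : Cert 2 rowsB2 [1, 10, 11, 21] 21 2 := by decide +kernel

theorem cert_D4 : Cert 4 rowsD4 [1, 10, 11, 100, 110, 111, 1000, 1010, 1011, 1110, 1111, 1121] 1121 2 := by decide +kernel

theorem cert_F4 : Cert 4 rowsF4 [1, 10, 11, 100, 110, 111, 210, 211, 221, 1000, 1100, 1110, 1111, 1210, 1211, 1221, 1321, 2210,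
    2211, 2221, 2321, 2421, 2431, 2432] 2432 4 := by decide +kernel

theorem cert_E6 : Cert 6 rowsE6 (L8.take 36) 123221 4 := by decide +kernel

theorem cert_E7 : Cert 7 rowsE7 (L8.take 63) 1234322 4 := by decide +kernel

theorem cert_E8 : Cert 8 rowsE8 L8 23456432 6 := by decide +kernel

theorem good_G2 {Mx} (X : XF hpG2 p k Mx) (hl : l.Prime) (h : 5 ≤ l) : Good X.D l := good_of_cert X isRows_G2 cert_G2 hl h

theorem good_B2 {Mx} (X : XF hpB2 p k Mx) (hl : l.Prime) (h : 3 ≤ l) : Good X.D l := good_of_cert X isRows_B2 cert_B2 hl h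

theorem good_D4 {Mx} (X : XF hpD4 p k Mx) (hl : l.Prime) (h : 3 ≤ l) : Good X.D l := good_of_cert X isRows_D4 cert_D4 hl h

theorem good_F4 {Mx} (X : XF hpF4 p k Mx) (hl : l.Prime) (h : 5 ≤ l) : Good X.D l := good_of_cert X isRows_F4 cert_F4 hl h

theorem good_E6 {Mx} (X : XF hpE6 p k Mx) (hl : l.Prime) (h : 5 ≤ l) : Good X.D l := good_of_cert X isRows_E6 cert_E6 hl h

theorem good_E7 {Mx} (X : XF hpE7 p k Mx) (hl : l.Prime) (h : 5 ≤ l) : Good X.D l := good_of_cert X isRows_E7 cert_E7 hl h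

theorem good_E8 {Mx} (X : XF hpE8 p k Mx) (hl : l.Prime) (h : 7 ≤ l) : Good X.D l := good_of_cert X isRows_E8 cert_E8 hl h

end Cfsg.Agent.LV.Lab
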