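import Cfsg.Agent.LV.T.Box
import Cfsg.Agent.LV.Blk.Main

/-!
# LV, the label layer: definitions (helper2)

* `Good D l` : `l` is a good prime and the characters modulo the root lattice have no `l`-torsion;
* `Std D K w₁ c` : the label `c` is in standard position: its stabiliser is `W_K`, it is fixed by the coset `W_K w₁`;
* `St D c` the stabiliser, `Cj D c c'` conjugacy, `yv f χ c` the multiplicities, `nr f χ c` the norm of the projection.
-/

set_option autoImplicit false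
set_option linter.unusedSectionVars false

namespace Cfsg.Agent.LV.Lab

open Cfsg Cfsg.Agent.DL Cfsg.Agent.DL.PP Cfsg.Agent.KZ.Lie Cfsg.Agent.Tits.Core Cfsg.Agent.Tits.Roots Cfsg.Agent.LV.T
  Cfsg.Agent.LV.Blk Matrix

variable {p : ℕ} [Fact p.Prime] {k : Type} [Field k] [CharP k p] {Y : Type} [Group Y] {N : Type} [Fintype N]
  [DecidableEq N] {ρ : Y →* GL N k} {F : MulAut Y} {G : Subgroup Y} [IsAlgClosed k] (D : Datum p ρ F G)

/-- `l` is good for the datum -/
structure Good (l : ℕ) : Prop where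
  tf : ∀ β : D.I → ℤ, (∀ j, (l : ℤ) ∣ D.wt β j) → ∀ i, (l : ℤ) ∣ β i
  lev : ∀ (j : ℕ) (x : D.R → ℤ), ∃ x' : D.R → ℤ, ∀ a, D.Rt a → ((l : ℤ) ^ j ∣ x ⬝ᵥ D.cor a ↔ x' ⬝ᵥ D.cor a = 0)

/-- the label is in standard position -/
structure Std (K : Set D.I) (w₁ : D.W) (c : Lbl D) : Prop where
  cor : ∀ a, D.Rt a → (chr (D.cor a) c = 1 ↔ ∀ i, i ∉ K → a i = 0)
  stab : ∀ u, Rel D u c c ↔ u ∈ WJ D.cs K
  fx : ∀ w, Fx D w c ↔ w * w₁⁻¹ ∈ WJ D.cs K
  min : Min D.cs K w₁
  node : ∀ i ∈ K, ∃ j ∈ K, D.act w₁ (D.g (sr i)) = sr j ∧ w₁ * D.Fw (D.cs.simple i) = D.cs.simple j * w₁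

/-- the stabiliser of a label -/
def St (c : Lbl D) : Subgroup D.W where
  carrier := {u | Rel D u c c}
  one_mem' := rel_one D c
  mul_mem' ha hb := hb.trans ha
  inv_mem' ha := ha.symm

/-- conjugate labels -/
def Cj (c c' : Lbl D) : Prop := ∃ v, Rel D v c c'

variable {D} (f : Fr D) [Fintype ↥(GF F G)]

/-- the multiplicities (zero if `c` is not fixed by `u F`) -/
noncomputable def yv (χ : ↥(GF F G) → ℂ) (c : Lbl D) (u : D.W) : ℂ := classInner χ (RW f u c)

/-- the norm of the projection to the span of the characters with the label `c` -/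
noncomputable def nr (χ : ↥(GF F G) → ℂ) (c : Lbl D) : ℝ := (Nat.card (St D c) : ℝ)⁻¹ * ∑ᶠ u, ‖yv f χ c u‖ ^ 2

end Cfsg.Agent.LV.Lab
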