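import Cfsg.Agent.LV.Lab.One
import Cfsg.Agent.LV.Lab.Sub
import Cfsg.Agent.LV.T.Main
import Cfsg.Agent.KZ.Lie.ApiC
import Cfsg.Agent.KZ.Mts.Main

/-!
# LV, the label layer: the level theorem for a label in standard position (helper2)
-/

set_option autoImplicit false
set_option linter.unusedSectionVars false
set_option maxHeartbeats 400000

namespace Cfsg.Agent.LV.Lab

open Cfsg Cfsg.Agent.DL Cfsg.Agent.DL.PP Cfsg.Agent.DL.Uni Cfsg.Agent.DL.Asm Cfsg.Agent.KZ.Lie Cfsg.Agent.Tits.Core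
  Cfsg.Agent.Tits.Roots Cfsg.Agent.Tits.Exchange Cfsg.Agent.LV.T Cfsg.Agent.Characters.Core Cfsg.Agent.KZ.Levi
  Cfsg.Agent.DL.Base Cfsg.Agent.ChevalleyStructure.CoxeterGeom Cfsg.Agent.Nodes.Reps Cfsg.Agent.Nodes.BNOf
  Cfsg.Agent.Nodes.Coroot Matrix

section Base

variable {I W : Type} [Fintype I] [DecidableEq I] [Group W] [Finite W] {M : CoxeterMatrix I} {cs : CoxeterSystem M W}
  {A : I → I → ℤ} {h : IsCartan M A} {Λ : AddSubgroup (I → ℤ)} {K : Set I}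
  (hK : ∀ a, IsRoot cs h a → (a ∈ Λ ↔ ∀ i, i ∉ K → a i = 0))
include hK

theorem ind_sr {i : I} (hi : i ∈ K) : Ind cs h Λ (sr i) := by
  refine ⟨⟨isRoot_sr _ _ i, sr_nonneg i, (hK _ (isRoot_sr _ _ i)).2 fun j hj => sr_ne fun e => hj (e ▸ hi)⟩,
    fun b c hb hc e => ?_⟩
  have h1 := RGD.ht_pos hb.1 hb.2.1
  have h2 := RGD.ht_pos hc.1 hc.2.1
  have h3 : ht (sr i : I → ℤ) = 1 := by simp [ht, sr]
  rw [e, RGD.ht_add] at h3
  omega

theorem exists_sr (j : Smp cs h Λ) : ∃ i ∈ K, bs cs h Λ j = sr i := by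
  have := Fintype.ofFinite W
  have h1 := form_pos cs h (bs_root j).ne_zero
  rw [form_eq_sum] at h1
  obtain ⟨i, -, hi⟩ := Finset.exists_lt_of_sum_lt (s := Finset.univ) (f := fun _ => (0 : ℤ)) (by simpa using h1)
  have h2 : i ∈ K := by_contra fun e => by simp [(hK _ (bs_root j)).1 (bs_mem j) i e] at hi
  refine ⟨i, h2, by_contra fun e => ?_⟩
  have h3 := cpr_nonpos (j := j) (k := ⟨_, ind_sr hK h2⟩) fun e' => e (congrArg (bs cs h Λ) e')
  exact not_lt.2 h3 ((cpr_pos_iff _ _ _ (isRoot_sr _ _ i)).2 (pos_of_mul_pos_right hi (bs_nonneg j i)))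

end Base

variable {p : ℕ} [Fact p.Prime] {k : Type} [Field k] [CharP k p] {Y : Type} [Group Y] {N : Type} [Fintype N]
  [DecidableEq N] {ρ : Y →* GL N k} {F : MulAut Y} {G : Subgroup Y} [IsAlgClosed k] {D : Datum p ρ F G}

variable (D) in
/-- multiples of the fundamental coweights -/
theorem exists_cow : ∃ (m : ℤ) (ϖ : D.I → D.R → ℤ), m ≠ 0 ∧ ∀ b i, D.wt b ⬝ᵥ ϖ i = m * b i := by
  refine ⟨_, fun i => (of D.cw)ᵀ *ᵥ fun j => (Wt D * (of D.cw)ᵀ).adjugate j i, det_cartan D, fun b i => ?_⟩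
  have h1 := congrFun (congrArg (b ᵥ* ·) (mul_adjugate (Wt D * (of D.cw)ᵀ))) i
  rw [← vecMul_vecMul, vecMul_smul, vecMul_one, ← vecMul_vecMul, vecMul_Wt] at h1
  rw [dotProduct_mulVec]
  exact h1

variable (D) in
/-- the cocharacter of a standard Levi subgroup -/
theorem exists_lam (K : Set D.I) : ∃ lam : D.R → ℤ, ∀ a, D.Rt a → (D.wt a ⬝ᵥ lam = 0 ↔ ∀ i, i ∉ K → a i = 0) := by
  classical
  obtain ⟨m, ϖ, hm, h⟩ := exists_cow D
  refine ⟨∑ i ∈ Finset.univ.filter (· ∉ K), ϖ i, fun a ha => ?_⟩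
  simp only [dotProduct_sum, h, ← Finset.mul_sum, mul_eq_zero, hm, false_or]
  rcases ha.pos_or_neg with h1 | h1
  · rw [Finset.sum_eq_zero_iff_of_nonneg fun i _ => h1 i]
    simp
  · rw [Finset.sum_eq_zero_iff_of_nonpos fun i _ => h1 i]
    simp

theorem act_inv_nonpos {K : Set D.I} {w : D.W} (h : Min D.cs K w) {a : D.I → ℤ} (h4 : a ≤ 0)
    (h5 : ∀ i, i ∉ K → a i = 0) : D.act w⁻¹ a ≤ 0 := by
  rw [D.eq_sum_sr a, Datum.act, map_sum]
  refine Finset.sum_nonpos fun i _ => ?_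
  rw [map_zsmul]
  by_cases hi : i ∈ K
  · refine smul_nonpos_of_nonpos_of_nonneg (h4 i) (nonneg_of_lt _ _ _ _ ?_)
    rw [← D.cs.length_inv (_ * _), _root_.mul_inv_rev, inv_inv, D.cs.inv_simple, h _ (simple_mem_WJ _ hi),
      D.cs.length_inv, D.cs.length_simple]
    omega
  · rw [h5 i hi, zero_smul]

theorem conj_Fw {y : Y} (hy : y ∈ G) {w₁ : D.W} (h0 : D.Rp w₁ (y⁻¹ * F y)) (v : D.W) :
    (D.conj hy ⟨w₁, h0⟩).Fw v * w₁ = w₁ * D.Fw v := by
  obtain ⟨m, hm, -⟩ := D.exists_rp v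
  have h1 := (D.conj_rp_iff hy ⟨w₁, h0⟩ (m := y⁻¹ * F (y * m * y⁻¹) * y)).1 (by
    convert ((D.conj_rp_iff hy ⟨w₁, h0⟩).2 hm).mapF using 1
    group)
  refine D.rp_unique (h1.mul h0) ?_
  convert h0.mul hm.mapF using 1
  simp only [map_mul, map_inv]
  group

theorem sub_Fw {lam : D.R → ℤ} (hs : Stab D lam) (u : (dL hs).W) :
    D.Fw (D.subW (Zl D lam) u) = D.subW (Zl D lam) ((dL hs).Fw u) := by
  obtain ⟨m, hm, -⟩ := (dL hs).exists_rp u
  exact D.rp_unique (D.rp_of_sub _ hs rfl hm).mapF (D.rp_of_sub _ hs rfl hm.mapF)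

theorem exists_adj {H H' : Subgroup Y} [Fintype H] [Fintype H'] (Λ : (Y → ℂ) →ₗ[ℂ] Y → ℂ) (μ : H' →* ℂˣ)
    (hΛ : ∀ ψ, IsGeneralizedCharacter H' (res H' ψ) → IsGeneralizedCharacter H (res H (Λ ψ)))
    (hc : ∀ φ φ', (∀ x ∈ H', φ x = φ' x) → Λ φ = Λ φ') {χ : H → ℂ} (hχ : IsGeneralizedCharacter H χ) :
    ∃ (_ : Fintype (IrrCharacter H')) (n : IrrCharacter H' → ℤ), ∀ φ, IsClassFunction H' (res H' φ) →
      classInner χ (res H (Λ (lin μ * φ))) = ∑ ψ : IrrCharacter H', n ψ * classInner (ψ : H' → ℂ) (res H' φ) := by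
  have := finite_irr (G := H')
  have := Fintype.ofFinite (IrrCharacter H')
  choose n hn using fun ψ : IrrCharacter H' => Blk.inner_int hχ (hΛ (lin μ * extendByZero H' ψ) (gen_of_char (by
    convert isCharacter_mul (Characters.Linear.isCharacter_hom μ) (isIrr_isCharacter ψ.2) using 1
    funext x
    rw [res, Pi.mul_apply, lin_coe, extendByZero_of_mem _ _ x.2]
    rfl)))
  refine ⟨this, n, fun φ hφ => ?_⟩
  rw [hc _ (∑ ψ : IrrCharacter H', classInner (res H' φ) ψ • (lin μ * extendByZero H' ψ)) fun x hx => by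
    have h1 := congrFun (classFunction_eq_sum hφ) ⟨x, hx⟩
    simp only [Finset.sum_apply, Pi.smul_apply, Pi.mul_apply, extendByZero_of_mem _ _ hx, ← mul_smul_comm,
      ← Finset.mul_sum] at h1 ⊢
    exact congrArg _ h1, map_sum, show res H _ = ∑ ψ : IrrCharacter H', classInner (res H' φ) ψ •
      res H (Λ (lin μ * extendByZero H' ψ)) from funext fun g => by
        simp only [res, Finset.sum_apply, map_smul, Pi.smul_apply], classInner_sum_right]
  exact Finset.sum_congr rfl fun ψ _ => by rw [classInner_smul_right, classInner_conj_symm, hn, mul_comm]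

variable (f : Fr D) [Fintype ↥(GF F G)] [Fintype D.W] {K : Set D.I} {w₁ : D.W} {c : Lbl D}

/-- **The level theorem for a label in standard position.** -/
theorem Std.lv (hq : D.QS) (H : Std D K w₁ c) {χ : ↥(GF F G) → ℂ} (hχ : IsGeneralizedCharacter _ χ) :
    Lv D.cs D.Fw K w₁ (yv f χ c) := by
  obtain ⟨lam, hlam⟩ := exists_lam D K
  have hy := yw_mem D w₁
  have h0 := yw_rp D w₁
  generalize yw D w₁ = y₁ at hy h0
  have hN : y₁⁻¹ * F y₁ ∈ D.NN := ⟨w₁, h0⟩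
  let l : (D.I → ℤ) →+ ℤ := AddMonoidHom.mk' (fun b => D.wt b ⬝ᵥ lam) fun b c => by rw [map_add, add_dotProduct]
  have hl : ∀ b, (D.conj hy hN).wt b ⬝ᵥ lam = l b := fun _ => rfl
  have hZ : ∀ a, a ∈ (D.conj hy hN).Sz (Zl (D.conj hy hN) lam) ↔ D.Rt a ∧ chr (D.cor a) c = 1 := fun a =>
    (mem_Sz_Zl hl).trans (and_congr_right fun ha => (hlam a ha).trans (H.cor a ha).symm)
  have hg : ∀ a, (D.conj hy hN).g a = D.act w₁ (D.g a) := fun a => by rw [D.conj_g, h0.pr_eq]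
  have hs : Stab (D.conj hy hN) lam := fun a ha => by
    obtain ⟨h1, h2⟩ := (hZ a).1 ha
    rw [hZ, hg]
    exact ⟨(D.g_root a h1).act _, (H.fx_one.cor_iff f.L h1).2 h2⟩
  have hK : ∀ a, IsRoot D.cs D.h a → (a ∈ (D.conj hy hN).Lam (Zl (D.conj hy hN) lam) ↔ ∀ i, i ∉ K → a i = 0) :=
    fun a ha => ((and_iff_right ha).symm.trans ((hZ a).trans (and_iff_right ha))).trans (H.cor a ha)
  choose e he he' using exists_sr hK
  have hP : Par D.cs (dL hs).cs ((D.conj hy hN).subW (Zl (D.conj hy hN) lam)) e K :=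
    ⟨(D.conj hy hN).subW_injective _,
      fun j => ((D.conj hy hN).subW_simple _ hs rfl j).trans ((congrArg _ (he' j)).trans ((D.conj hy hN).rf_sr _)),
      Set.Subset.antisymm (by rintro _ ⟨j, rfl⟩; exact he j) fun i hi => ⟨⟨_, ind_sr hK hi⟩, by
        by_contra h1
        have h2 := congrFun (show sr i = _ from he' ⟨_, ind_sr hK hi⟩) i
        rw [sr_self, sr_ne (Ne.symm h1)] at h2
        exact one_ne_zero h2⟩⟩
  have hQ : (dL hs).QS := fun b hb h1 => by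
    rw [← iota_nonneg_iff ((dL hs).g_root b hb)]
    show 0 ≤ (D.conj hy hN).io _ _
    rw [(D.conj hy hN).sub_g _ hs rfl hb, hg]
    have h2 := (isRoot_iff b).1 hb
    have h3 := (D.g_root _ h2).act w₁
    refine h3.pos_or_neg.resolve_right fun h4 => (D.g_root _ h2).not_pos_neg (hq _ h2 (iota_nonneg h1)) ?_
    rw [← act_inv_act D w₁ (D.g _)]
    exact act_inv_nonpos H.min h4
      ((H.cor _ h3).1 ((H.fx_one.cor_iff f.L h2).2 ((hZ _).1 (((D.conj hy hN).sub_rt _ hs rfl).1 hb)).2))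
  have hM : (dL hs).Mx = D.Wm w₁ * D.Mx := (D.conj_Mx hy hN).trans (by rw [h0.pr_eq])
  have hW : ∀ u, (dL hs).Wm u = D.Wm ((D.conj hy hN).subW _ u) := fun u => (ApiC.sub_Wm hs u).trans (conj_Wm hy hN _)
  let f' : Fr (dL hs) := ⟨f.d, f.e, ⟨f.L.d_pos, f.L.e_pos, fun u => by
      rw [hM, hW, ← mul_assoc, ← D.Wm_mul]
      exact f.L.pow _⟩, f.ζ, f.hζ⟩
  obtain ⟨μ, hμ, hL⟩ := KZ.Mts.boxExLin (dL hs) f.d f.e f.ζ f'.L f.hζ c (fun j => by
      obtain ⟨h2, h3⟩ := (hZ _).1 ⟨bs_root j, bs_mem j⟩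
      rwa [← ApiC.conj_cor hy hN h2] at h3) (fun v => by rw [hM, (dL hs).Wm_one, one_mul]; exact H.fx_one v)
  have := finite_GF (dL hs)
  have := Fintype.ofFinite (GF F (Lc (D.conj hy hN) lam))
  have := @Fintype.ofFinite _ (dL hs).fW
  have h1 := pconst_of_lin (isLin_lin μ) fun u hu h => by rw [lin_apply μ hu, hμ ⟨u, hu⟩ h, Units.val_one]
  obtain ⟨_, n, hn⟩ := exists_adj (RL (D.conj hy hN) l lam) μ (fun ψ => gen_RL hl) (fun _ _ => RL_congr) hχ
  have h2 : ∀ u, res _ (RL (D.conj hy hN) l lam (lin μ * R (dL hs) (Tw (dL hs) u) (th f' u 1))) =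
      RW f ((D.conj hy hN).subW _ u * w₁) c := fun u => funext fun g => by
    have hy' := yw_mem (dL hs) u
    have hu := yw_rp (dL hs) u
    have hyG : yw (dL hs) u ∈ G := (D.conj hy hN).cen_le_G _ hy'
    have h6 := (D.conj hy hN).rp_of_sub _ hs rfl hu
    have h7 : D.Rp ((D.conj hy hN).subW _ u * w₁) ((yw (dL hs) u * y₁)⁻¹ * F (yw (dL hs) u * y₁)) := by
      have h8 := (D.conj_rp_iff hy hN (m := y₁⁻¹ * ((yw (dL hs) u)⁻¹ * F (yw (dL hs) u)) * y₁)).1 (by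
        convert h6 using 1; group)
      convert h8.mul h0 using 1
      rw [map_mul]
      group
    have h8 : Lab D f.d f.ζ (yw (dL hs) u * y₁) (lin μ) c := fun v => by
      rw [← hL _ hy' u hu v]
      congr 2
      show _ = _ * (y₁ * D.τ _ * y₁⁻¹) * _
      group
    rw [res, RL_congr (f := lin μ * R (dL hs) (Tw (dL hs) u) (th f' u 1)) (f' := R (dL hs) (Tw (dL hs) u) (lin μ)) fun x hx =>
      ((sys' (dL hs)).pconst _ (Tw_mem u) _ _ h1 x hx).symm.trans ((sys' (dL hs)).R_congr (Tw_mem u)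
        (fun t ht => by rw [Pi.mul_apply, th_one u t ht, mul_one]) x hx), RL_R hl hs (Tw_mem u) _ _ g.2, ← R_eq_RW f (G.mul_mem hyG hy) h7 h8,
      ← R_conj_datum hy hN (mem_tori (G.mul_mem hyG hy) h7) _ _ g.2, cj_mul]
    rfl
  refine hP.lv (aut_Fw hq) (aut_Fw hQ) H.min (fun u => by rw [← sub_Fw, conj_Fw hy h0]) ?_
  refine (Lv.sum Finset.univ fun ψ _ => (boxLv f' hQ _ (gen_of_irr ψ.2)).zsmul (n ψ)).congr fun u _ => ?_
  rw [Finset.sum_apply]
  exact (hn _ (Blk.gen_cls (RW_gen f' _ _))).symm.trans (congrArg _ (h2 _))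

end Cfsg.Agent.LV.Lab
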