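import Cfsg.Agent.LV.Lab.Std
import Cfsg.Agent.LV.Cl.Fm

/-!
# LV, the label layer: labels whose stabiliser is a standard parabolic subgroup (helper2)

`std_of_st`, `lv_of_st` (any datum, `l` odd), `boxLvK`.
-/

set_option autoImplicit false
set_option linter.unusedSectionVars false
set_option maxHeartbeats 400000

namespace Cfsg.Agent.LV.Lab

open Cfsg Cfsg.Agent.DL Cfsg.Agent.DL.PP Cfsg.Agent.KZ.Lie Cfsg.Agent.Tits.Core Cfsg.Agent.Tits.Roots
  Cfsg.Agent.Tits.Exchange Cfsg.Agent.LV.T Cfsg.Agent.LV.Blk Cfsg.Agent.ChevalleyStructure.CoxeterGeom Matrix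

section

variable {p : ℕ} [Fact p.Prime] {k : Type} [Field k] [CharP k p] {Y : Type} [Group Y] {N : Type} [Fintype N]
  [DecidableEq N] {ρ : Y →* GL N k} {F : MulAut Y} {G : Subgroup Y} [IsAlgClosed k] {D : Datum p ρ F G}
  {l : ℕ} {c : Lbl D} {w : D.W} {K : Set D.I} {a : D.I → ℤ}

theorem rf_mem_WJ (ha : D.Rt a) : D.rf a ∈ WJ D.cs K ↔ ∀ i, i ∉ K → a i = 0 := by
  classical
  refine ⟨fun h i hi => ?_, fun h => ?_⟩
  · have h1 := Tits.RootComb.rep_apply_of_mem D.cs D.h h a hi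
    rw [show rep D.cs D.h (D.rf a) a = -a from D.act_rf_self ha, Pi.neg_apply] at h1
    omega
  · let L : (D.I → ℤ) →+ ℤ := AddMonoidHom.mk' (fun b => ∑ i ∈ Finset.univ.filter (· ∉ K), b i) fun b b' =>
      Finset.sum_add_distrib
    refine CF.mem_of_fix_dom D L (fun i => Finset.sum_nonneg fun j _ => sr_nonneg i j) (fun i hi => simple_mem_WJ _ ?_) _
      fun b => ?_
    · by_contra e
      have := (Finset.sum_eq_zero_iff_of_nonneg fun j _ => sr_nonneg i j).1 hi i (by simpa using e)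
      rw [sr_self] at this
      exact one_ne_zero this
    · have h1 : L a = 0 := Finset.sum_eq_zero fun i hi => h i (by simpa using hi)
      rw [D.act_rf ha, map_sub, map_zsmul, h1, smul_zero, sub_zero]

theorem rel_rf_iff (hl : Odd l) (hc : IsL l c) (ha : D.Rt a) : Rel D (D.rf a) c c ↔ chr (D.cor a) c = 1 := by
  refine ⟨fun h => ?_, rel_rf ha⟩
  obtain ⟨j, hj⟩ := hc
  obtain ⟨m, hm⟩ := hl.pow (n := j)
  have h1 := h (D.cor a)
  rw [← D.cor_act _ ha, D.act_rf_self ha, D.cor_neg ha, chr_neg, inv_eq_iff_mul_eq_one] at h1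
  have h2 := congrArg (chr (D.cor a)) hj
  rwa [map_pow, map_one, hm, pow_succ, pow_mul, sq, h1, one_pow, one_mul] at h2

theorem std_of_st (hq : D.QS) (hl : Odd l) (hc : IsL l c) (h : St D c = WJ D.cs K) (hw : Fx D w c) :
    ∃ x ∈ WJ D.cs K, ∃ w₁, w = x * w₁ ∧ Std D K w₁ c :=
  have h1 : ∀ u, Rel D u c c ↔ u ∈ WJ D.cs K := fun u => SetLike.ext_iff.1 h u
  std_of hq (fun _ ha => (rel_rf_iff hl hc ha).symm.trans ((h1 _).trans (rf_mem_WJ ha))) h1 hw

/-- **The level theorem** for a label of odd order whose stabiliser is `W_K` -/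
theorem lv_of_st (f : Fr D) [Fintype ↥(GF F G)] [Fintype D.W] (hq : D.QS) (hl : Odd l) (hc : IsL l c)
    (h : St D c = WJ D.cs K) (hw : Fx D w c) {χ : ↥(GF F G) → ℂ} (hχ : IsGeneralizedCharacter _ χ) :
    Lv D.cs D.Fw K w (yv f χ c) := by
  obtain ⟨x, hx, w₁, rfl, H⟩ := std_of_st hq hl hc h hw
  exact (H.lv f hq hχ).mono subset_rfl hx

end

theorem boxLvK : Cl.BoxLvK := fun f _ _ _ _ _ Φ _ _ _ hc h hw _ hχ => lv_of_st f Φ.qs (by decide) hc h hw hχ

end Cfsg.Agent.LV.Lab
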